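import Groth.Prelude.Def_EGA4Misc
import Mathlib.AlgebraicGeometry.Morphisms.UniversallyInjective
import Mathlib.AlgebraicGeometry.Morphisms.Flat
import Mathlib.AlgebraicGeometry.Morphisms.SurjectiveOnStalks
import Mathlib.RingTheory.RingHom.PurelyInseparable
import Mathlib.FieldTheory.PurelyInseparable.Basic

/-!
Radicial at a point: residue field facts, comparison with universal injectivity of the fibre,
descent of universal injectivity along a surjective base change.
-/

universe u

open CategoryTheory CategoryTheory.Limits AlgebraicGeometry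

namespace Groth.Agent.RadPtLib

section RingHoms

variable {A B C D : Type*} [Field A] [Field B] [Field C] [Field D]

lemma pi_of_bijective {a : A →+* B} (ha : Function.Bijective a) : a.IsPurelyInseparable := by
  algebraize [a]
  let e : A ≃ₐ[A] B := AlgEquiv.ofBijective (Algebra.ofId A B) ha
  exact e.isPurelyInseparable

lemma pi_bijective_comp_iff {a : A →+* B} {φ : B →+* C} {b : C →+* D}
    (ha : Function.Bijective a) (hb : Function.Bijective b) :
    (b.comp (φ.comp a)).IsPurelyInseparable ↔ φ.IsPurelyInseparable := by
  refine ⟨fun h => ?_, fun h => ((pi_of_bijective ha).comp h).comp (pi_of_bijective hb)⟩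
  let a' := (RingEquiv.ofBijective a ha).symm.toRingHom
  let b' := (RingEquiv.ofBijective b hb).symm.toRingHom
  have e : b'.comp ((b.comp (φ.comp a)).comp a') = φ := by
    ext x
    show (RingEquiv.ofBijective b hb).symm (b (φ (a ((RingEquiv.ofBijective a ha).symm x)))) = φ x
    have h1 : a ((RingEquiv.ofBijective a ha).symm x) = x :=
      (RingEquiv.ofBijective a ha).apply_symm_apply x
    rw [h1]
    exact (RingEquiv.ofBijective b hb).symm_apply_apply (φ x)
  rw [← e]
  exact ((pi_of_bijective (RingEquiv.ofBijective a ha).symm.bijective).comp h).comp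
    (pi_of_bijective (RingEquiv.ofBijective b hb).symm.bijective)

lemma pi_of_comp {a : A →+* B} {b : B →+* C} (h : (b.comp a).IsPurelyInseparable) :
    a.IsPurelyInseparable ∧ b.IsPurelyInseparable := by
  algebraize [a, b, b.comp a]
  exact ⟨IsPurelyInseparable.tower_bot A B C, IsPurelyInseparable.tower_top A B C⟩

end RingHoms

lemma residueFieldMap_bijective {X Y : Scheme.{u}} (f : X ⟶ Y) [SurjectiveOnStalks f] (x : X) :
    Function.Bijective (f.residueFieldMap x).hom := by
  refine ⟨RingHom.injective _, fun a => ?_⟩
  obtain ⟨b, rfl⟩ := X.residue_surjective x a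
  obtain ⟨c, rfl⟩ := f.stalkMap_surjective x b
  exact ⟨Y.residue (f x) c, congr($(Scheme.residue_residueFieldMap f x) c)⟩

/-- A morphism to the spectrum of a residue field is radicial everywhere iff it is universally
injective; combined with the identification of the fibre, this gives the criterion. -/
theorem isRadicialAt_iff_fiber {X Y : Scheme.{u}} (f : X ⟶ Y) (y : Y) :
    RadPt.IsRadicialAt f y ↔ UniversallyInjective (f.fiberToSpecResidueField y) := by
  let g := f.fiberToSpecResidueField y
  have hmem : ∀ z : f.fiber y, f (f.fiberι y z) = y := fun z => by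
    have := Set.mem_range_self (f := f.fiberι y) z
    rwa [Scheme.Hom.range_fiberι] at this
  have hres : ∀ z : f.fiber y, (f.residueFieldMap (f.fiberι y z)).hom.IsPurelyInseparable ↔
      (g.residueFieldMap z).hom.IsPurelyInseparable := by
    intro z
    have e : f.fiberι y ≫ f = g ≫ Y.fromSpecResidueField y := Scheme.Hom.fiber_fac f y
    have h := Scheme.Hom.residueFieldMap_congr e z
    simp only [Scheme.residueFieldMap_comp] at h
    have h1 := residueFieldMap_bijective (f.fiberι y) z
    have h2 := residueFieldMap_bijective (Y.fromSpecResidueField y) (g z)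
    let c := Scheme.residueFieldCongr (X := Y) (x := (f.fiberι y ≫ f) z)
      (y := (g ≫ Y.fromSpecResidueField y) z) (by rw [e])
    have hc : Function.Bijective c.hom.hom := ConcreteCategory.bijective_of_isIso c.hom
    have hi : Function.Bijective (RingHom.id (Y.residueField (f (f.fiberι y z)))) :=
      Function.bijective_id
    have h' : ((f.fiberι y).residueFieldMap z).hom.comp (f.residueFieldMap (f.fiberι y z)).hom =
        (g.residueFieldMap z).hom.comp
          (((Y.fromSpecResidueField y).residueFieldMap (g z)).hom.comp c.hom.hom) := by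
      have := congrArg CommRingCat.Hom.hom h
      simp only [CommRingCat.hom_comp, RingHom.comp_assoc] at this
      exact this
    have hd : Function.Bijective
        (((Y.fromSpecResidueField y).residueFieldMap (g z)).hom.comp c.hom.hom) := h2.comp hc
    have hid : Function.Bijective (RingHom.id ((f.fiber y).residueField z)) :=
      Function.bijective_id
    have h5 := pi_bijective_comp_iff (φ := (g.residueFieldMap z).hom) hd hid
    rw [RingHom.id_comp] at h5
    rw [← pi_bijective_comp_iff hi h1, RingHom.comp_id, h']
    exact h5
  constructor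
  · rintro ⟨h1, h2⟩
    have hiff := (tfae_universallyInjective g).out 0 2
    refine hiff.2 ⟨fun a b _ => ?_, fun z => ?_⟩
    · exact (f.fiberι y).isEmbedding.injective (h1 _ _ (hmem a) (hmem b))
    · exact (hres z).1 (h2 _ (hmem z))
  · intro hg
    have hiff := (tfae_universallyInjective g).out 0 2
    obtain ⟨h1, h2⟩ := hiff.1 hg
    have hsurj : ∀ x, f x = y → ∃ z, f.fiberι y z = x := fun x hx => by
      have : x ∈ Set.range (f.fiberι y) := by rw [Scheme.Hom.range_fiberι]; exact hx
      exact this
    refine ⟨fun x x' hx hx' => ?_, fun x hx => ?_⟩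
    · obtain ⟨a, rfl⟩ := hsurj x hx
      obtain ⟨b, rfl⟩ := hsurj x' hx'
      exact congrArg _ (h1 (Subsingleton.elim (α := PrimeSpectrum _) (g a) (g b)))
    · obtain ⟨a, rfl⟩ := hsurj x hx
      exact (hres a).2 (h2 a)

/-- Universal injectivity descends along a surjective base change. -/
theorem universallyInjective_of_isPullback {X Y X' Y' : Scheme.{u}} {f : X ⟶ Y} {h : Y' ⟶ Y}
    {f' : X' ⟶ Y'} {h' : X' ⟶ X} (sq : IsPullback h' f' f h) [Surjective h]
    (hf : UniversallyInjective f') : UniversallyInjective f := by
  have hi1 := (tfae_universallyInjective f).out 0 1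
  have hi2 := (tfae_universallyInjective f').out 0 1
  refine hi1.2 ?_
  intro K _ a b hab
  have hinj := hi2.1 hf
  replace hab : a ≫ f = b ≫ f := hab
  haveI : Surjective (pullback.snd h (a ≫ f)) := MorphismProperty.pullback_snd _ _ inferInstance
  obtain ⟨q, -⟩ := (pullback.snd h (a ≫ f)).surjective (IsLocalRing.closedPoint K)
  let F := (pullback h (a ≫ f)).residueField q
  let p := (pullback h (a ≫ f)).fromSpecResidueField q
  let i : Spec F ⟶ Spec (.of K) := p ≫ pullback.snd _ _
  have hw : (p ≫ pullback.fst _ _) ≫ h = i ≫ a ≫ f := by simp [i, pullback.condition]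
  let a' := sq.lift (i ≫ a) (p ≫ pullback.fst _ _) (by rw [hw, Category.assoc])
  let b' := sq.lift (i ≫ b) (p ≫ pullback.fst _ _) (by rw [hw, Category.assoc, hab])
  have he : a' = b' := @hinj F _ a' b'
    (show a' ≫ f' = b' ≫ f' by simp [a', b'])
  have h2 : i ≫ a = i ≫ b := by
    have := congrArg (· ≫ h') he
    simpa [a', b'] using this
  haveI : Subsingleton ↥(Spec (CommRingCat.of K)) :=
    inferInstanceAs (Subsingleton (PrimeSpectrum K))
  haveI : Surjective i := ⟨fun z => ⟨IsLocalRing.closedPoint F, Subsingleton.elim _ _⟩⟩
  haveI : Flat i := inferInstance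
  haveI : QuasiCompact i := inferInstance
  haveI := Flat.epi_of_flat_of_surjective i
  exact (cancel_epi i).1 h2

end Groth.Agent.RadPtLib
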